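import Groth.Agent.EtBcBridgeLib.Criterion
import Groth.Agent.EtStrictAcycLib.Fibre
import Groth.Agent.WEtFieldLib.Basic
import Groth.Agent.WEtReducedLib.Basic

/-!
# Morphisms to zero-dimensional schemes are locally acyclic
-/

set_option autoImplicit false
set_option linter.all false
set_option backward.isDefEq.respectTransparency false
set_option backward.isDefEq.respectTransparency.types false
set_option synthInstance.maxHeartbeats 400000
set_option maxHeartbeats 2000000

universe u

open CategoryTheory CategoryTheory.Limits AlgebraicGeometry Opposite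

noncomputable section

namespace LocAcycPointLib

/-- A scheme all of whose points are closed. -/
def ZeroDim (X : Scheme.{u}) : Prop := ∀ a b : X, a ⤳ b → a = b

/-- A scheme weakly étale over a field has no specialisations. -/
theorem zeroDim_of_weaklyEtale {k : Type u} [Field k] {X : Scheme.{u}} (p : X ⟶ Spec (CommRingCat.of k))
    [WeaklyEtale p] : ZeroDim X := by
  intro a b h
  obtain ⟨i, z, hz⟩ := X.affineCover.exists_eq b
  obtain ⟨A, c, hc, z, hz⟩ : ∃ (A : CommRingCat.{u}) (c : Spec A ⟶ X) (_ : IsOpenImmersion c) (z : ↥(Spec A)),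
      c.base z = b := ⟨_, X.affineOpenCover.f i, inferInstance, z, hz⟩
  haveI := hc
  obtain ⟨φ, hφ⟩ := Spec.map_surjective (c ≫ p)
  haveI : WeaklyEtale (Spec.map φ) := by rw [hφ]; infer_instance
  letI : Algebra k A := φ.hom.toAlgebra
  haveI : Algebra.WeaklyEtale k A := Groth.Agent.WEtReducedLib.weaklyEtale_of_spec φ
  obtain ⟨w, hw⟩ : a ∈ Set.range c.base :=
    h.mem_open c.isOpenEmbedding.isOpen_range ⟨z, hz⟩
  have hwz : w ⤳ z := (c.isOpenEmbedding.isInducing.specializes_iff).1 (by rwa [hw, hz])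
  rw [← hw, ← hz]
  refine congrArg c.base (PrimeSpectrum.ext ?_)
  have hle : w.asIdeal ≤ z.asIdeal := (PrimeSpectrum.le_iff_specializes w z).2 hwz
  refine le_antisymm hle fun r hr => ?_
  obtain ⟨x, hx⟩ := Groth.Agent.WEtFieldLib.forall_dvd (K := k) (B := A) r
  by_contra hrw
  have h0 : r * (1 - r * x) = 0 := by rw [mul_sub, mul_one, ← mul_assoc, ← hx, sub_self]
  have h1 : 1 - r * x ∈ z.asIdeal :=
    hle ((w.isPrime.mem_or_mem (h0 ▸ w.asIdeal.zero_mem)).resolve_left hrw)
  exact z.isPrime.ne_top ((Ideal.eq_top_iff_one _).2 (by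
    have h2 := z.asIdeal.add_mem h1 (z.asIdeal.mul_mem_right x hr)
    rwa [sub_add_cancel] at h2))

/-- A locally quasi-finite scheme over a zero-dimensional one is zero-dimensional. -/
theorem ZeroDim.of_locallyQuasiFinite {X Y : Scheme.{u}} (hY : ZeroDim Y) (f : X ⟶ Y) [LocallyQuasiFinite f] :
    ZeroDim X := by
  intro a b h
  have hab : f.base a = f.base b := hY _ _ (h.map f.base.hom.continuous)
  obtain ⟨U, hU, hb⟩ := isDiscrete_iff_forall_mem_exists_isOpen.1 (f.isDiscrete_preimage_singleton (f.base b)) b rfl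
  have hbU : b ∈ U ∩ f.base ⁻¹' {f.base b} := by
    rw [hb]
    exact Set.mem_singleton b
  have h1 : a ∈ U ∩ f.base ⁻¹' {f.base b} := ⟨h.mem_open hU hbU.1, hab⟩
  rwa [hb] at h1

/-- Quasi-compact open subschemes of zero-dimensional schemes are closed. -/
theorem ZeroDim.isClosedImmersion {X Y : Scheme.{u}} (hY : ZeroDim Y) (j : X ⟶ Y) [IsOpenImmersion j]
    [QuasiCompact j] : IsClosedImmersion j := by
  refine IsClosedImmersion.of_isPreimmersion j ?_
  have h : IsClosedMap j.base := (isClosedMap_iff_specializingMap j).2 fun a y hy =>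
    ⟨a, specializes_rfl, hY _ _ hy⟩
  exact h.isClosed_range

/-- Base change along finite morphisms in every degree. -/
theorem isIso_bcQ_finite {X S T Y : Scheme.{u}} (j : T ⟶ S) [IsFinite j] (g : X ⟶ S) (h : Y ⟶ X) (e : Y ⟶ T)
    (c : IsPullback e h j g) (F : EtCoh.Ab T) (q : ℕ) : IsIso (EtBC.bcQ j g h e c.w q F) := by
  haveI : IsFinite h := MorphismProperty.of_isPullback c ‹_›
  haveI : (EtCoh.pull g).Additive := (EtCoh.pullPushAdj _).left_adjoint_additive
  haveI : PreservesFiniteColimits (EtCoh.push j) := EtBcKilledLib.preservesFiniteColimits_push_integral j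
  haveI : PreservesFiniteColimits (EtCoh.push h) := EtBcKilledLib.preservesFiniteColimits_push_integral h
  rcases Nat.eq_zero_or_pos q with rfl | hq
  · haveI := Groth.Agent.S0655.result j g h e c F
    haveI : IsIso ((EtCoh.push j).toRightDerivedZero.app F) := inferInstance
    haveI : IsIso ((EtCoh.push h).toRightDerivedZero.app ((EtCoh.pull e).obj F)) := inferInstance
    haveI : IsIso ((EtCoh.pull g).map ((EtCoh.push j).toRightDerivedZero.app F) ≫ EtBC.bcQ j g h e c.w 0 F) := by
      rw [EtBC.bcQ_zero_compat]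
      infer_instance
    exact IsIso.of_isIso_comp_left ((EtCoh.pull g).map ((EtCoh.push j).toRightDerivedZero.app F)) _
  · have h1 := (EtCoh.pull g).map_isZero (EtStrictAcycLib.isZero_Rpush_finite j F q hq)
    have h2 := EtStrictAcycLib.isZero_Rpush_finite h ((EtCoh.pull e).obj F) q hq
    exact ⟨0, h1.eq_of_src _ _, h2.eq_of_src _ _⟩

/-- Every morphism to a zero-dimensional scheme is locally acyclic. -/
theorem isLocAcyclicN_of_zeroDim {X Y : Scheme.{u}} (g : X ⟶ Y) (hY : ZeroDim Y) {L : Set ℕ}
    (hL : ∃ ℓ ∈ L, ℓ.Prime) (n : ℕ) : EtAcyc.IsLocAcyclicN g L n := by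
  refine EtBcBridgeLib.isLocAcyclicN_of_openBC hL ?_
  intro Y' X' i a g' _ hi _ T Z j h e c hj hj' F _ q _
  haveI := hi
  haveI := hj
  haveI := hj'
  haveI := (hY.of_locallyQuasiFinite i).isClosedImmersion j
  exact isIso_bcQ_finite j g' h e c F q

end LocAcycPointLib
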