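import Groth.Agent.LocAcycPointLib.Coeff
import Groth.Agent.LocAcycPointLib.ZeroDim
import Groth.Agent.EtBcQLib.Strict
import Groth.Agent.LocAcycBCLib.Main
import Groth.Agent.S3470
import Groth.Agent.S3471

/-!
# Local acyclicity for constant coefficients and n-acyclicity
-/

set_option autoImplicit false
set_option linter.all false
set_option backward.isDefEq.respectTransparency false
set_option backward.isDefEq.respectTransparency.types false
set_option synthInstance.maxHeartbeats 400000
set_option maxHeartbeats 2000000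

universe u

open CategoryTheory CategoryTheory.Limits CategoryTheory.Abelian AlgebraicGeometry Opposite
open Groth.Agent.EtShLib EtRpushStalkLib DescSecLib
open scoped TensorProduct

noncomputable section

namespace LocAcycPointLib

attribute [local instance] EtSliceLib.pullExact

/-- The primes of a modulus. -/
abbrev primesOf (n : ℕ) : Set ℕ := {p | p.Prime ∧ p ∣ n}

theorem primesIn_self {n : ℕ} (hn : 0 < n) : EtAcyc.PrimesIn (primesOf n) n := ⟨hn, fun _ hp hd => ⟨hp, hd⟩⟩

theorem exists_prime {n : ℕ} (hn : 1 < n) : ∃ ℓ ∈ primesOf n, ℓ.Prime :=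
  ⟨n.minFac, ⟨Nat.minFac_prime (by omega), n.minFac_dvd⟩, Nat.minFac_prime (by omega)⟩

/-- A finite scheme over a separably closed field has no higher cohomology. -/
theorem subsingleton_H_finite {Ω : Type u} [Field Ω] [IsSepClosed Ω] {Z : Scheme.{u}}
    (p : Z ⟶ Spec (CommRingCat.of Ω)) [IsFinite p] (N : EtCoh.Ab Z) (k : ℕ) :
    Subsingleton (EtCoh.H Z N (k + 1)) := by
  haveI : PreservesLimitsOfSize.{0, 0} (EtCoh.push p) := (EtCoh.pullPushAdj p).rightAdjoint_preservesLimits
  haveI : PreservesFiniteLimits (EtCoh.push p) := PreservesLimitsOfSize.preservesFiniteLimits _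
  haveI : PreservesFiniteColimits (EtCoh.pull p) :=
    haveI : PreservesColimitsOfSize.{0, 0} (EtCoh.pull p) := (EtCoh.pullPushAdj p).leftAdjoint_preservesColimits
    PreservesColimitsOfSize.preservesFiniteColimits _
  haveI : (EtCoh.push p).Additive := { }
  have hb := (EtAcycLib.extAdj'_range (EtCoh.pullPushAdj p) (EtCoh.const (Spec (CommRingCat.of Ω)) ℤ) (k + 1) N
    fun q _ => EtStrictAcycLib.isZero_Rpush_finite p N (q + 1) q.succ_pos).1 (k + 1) le_rfl
  have hb' := (EtAcycLib.bijective_mk₀_iso_precomp (Z := N) (EtCore.pullConst p ℤ).symm (k + 1)).comp hb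
  refine ⟨fun a b => ?_⟩
  obtain ⟨a', rfl⟩ := hb'.2 a
  obtain ⟨b', rfl⟩ := hb'.2 b
  rw [EtAcycFibLib.eq_zero_of_point _ k a', EtAcycFibLib.eq_zero_of_point _ k b']

/-- A point with separably closed residue field has no higher direct images. -/
theorem isZero_Rpush_point {S : Scheme.{u}} {Ω : Type u} [Field Ω] [IsSepClosed Ω]
    (t : Spec (CommRingCat.of Ω) ⟶ S) [QuasiCompact t] [QuasiSeparated t]
    (N : EtCoh.Ab (Spec (CommRingCat.of Ω))) (k : ℕ) :
    IsZero ((EtCoh.Rpush t (k + 1)).obj N) := by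
  rw [IsZero.iff_id_eq_zero]
  have hiso : IsIso (0 : (EtCoh.Rpush t (k + 1)).obj N ⟶ (EtCoh.Rpush t (k + 1)).obj N) := by
    refine (isIso_iff_stalks _).2 fun K _ _ ξ => ?_
    let x := ξ.base default
    obtain ⟨RS, _, _, _, _, hS⟩ := Groth.Agent.S0537.result (S.presheaf.stalk x)
    haveI : HenselianLocalRing RS := hS.henselian
    haveI : IsSepClosed (IsLocalRing.ResidueField RS) := hS.isSepClosure.sep_closed
    obtain ⟨C⟩ := exists_chart x RS
    have sq := IsPullback.of_hasPullback t (Hens2.specOf S x RS)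
    obtain ⟨e⟩ := nonempty_iso t sq C (k + 1)
    have hx : (closedPt RS ≫ Hens2.specOf S x RS).base default = ξ.base default := by
      show (S.fromSpecStalk x).base ((Spec.map _).base ((closedPt RS).base default)) = x
      rw [EtBcQLib.closedPt_base]
      exact (congrArg (S.fromSpecStalk x).base
        (IsLocalRing.comap_closedPoint (algebraMap (S.presheaf.stalk x) RS))).trans Scheme.fromSpecStalk_closedPoint
    obtain ⟨φ⟩ := nonempty_stk_iso_of_eq (A := AddCommGrpCat.{u + 1})
      (ξ := closedPt RS ≫ Hens2.specOf S x RS) (ξ' := ξ) hx.symm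
    let G := (EtCoh.pull (pullback.fst t (Hens2.specOf S x RS))).obj N
    have hzero : Subsingleton (EtCoh.H (pullback t (Hens2.specOf S x RS)) G (k + 1)) := by
      haveI : ∀ i : C.I, IsAffine (C.DS.obj i).left := C.aff
      haveI : ∀ i j (a : i ⟶ j), IsAffineHom ((C.D t).map a) := fun i j a => C.isAffineHom_map t a
      haveI : ∀ i : C.I, CompactSpace ((C.D t).obj i) := fun i => C.compactSpace_D t i
      haveI : ∀ i : C.I, QuasiSeparatedSpace ((C.D t).obj i) := fun i => C.quasiSeparatedSpace_D t i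
      refine subsingleton_of_forall_eq 0 fun ξc => ?_
      obtain ⟨i, x₁, hx₁⟩ := EtStrictAcycLib.exists_Hmap_stgPt N (C.t t) (C.c t sq) (C.isLimit t sq)
        (pullback.fst t (Hens2.specOf S x RS)) (C.c_hom t sq) (k + 1) ξc
      let v : (C.DS.obj i).left ⟶ S := (C.DS.obj i).hom
      haveI : AlgebraicGeometry.Etale v := (C.DS.obj i).prop
      haveI := locallyQuasiFinite_of_etale v
      let q : (C.D t).obj i ⟶ Spec (CommRingCat.of Ω) := pullback.snd v t
      haveI : LocallyQuasiFinite q := inferInstanceAs (LocallyQuasiFinite (pullback.snd v t))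
      haveI : CompactSpace ↥((C.D t).obj i) := inferInstance
      haveI : QuasiCompact q := (quasiCompact_iff_compactSpace q).2 inferInstance
      haveI : IsFinite q := IsFinite.of_locallyQuasiFinite q
      rw [← hx₁, @Subsingleton.elim _ (subsingleton_H_finite q _ k) x₁ 0, map_zero]
    have hz : IsZero ((stk (A := AddCommGrpCat.{u + 1}) ξ).obj ((EtCoh.Rpush t (k + 1)).obj N)) :=
      ((@AddCommGrpCat.isZero_of_subsingleton _ hzero : IsZero ((EtCoh.pull (pullback.fst t (Hens2.specOf S x RS)) ⋙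
        extFunctorObj (EtCoh.const (pullback t (Hens2.specOf S x RS)) ℤ) (k + 1)).obj N))).of_iso
        ((φ.app _).symm ≪≫ e.app N)
    exact ⟨0, hz.eq_of_src _ _, hz.eq_of_src _ _⟩
  haveI := hiso
  exact (cancel_mono (0 : (EtCoh.Rpush t (k + 1)).obj N ⟶ (EtCoh.Rpush t (k + 1)).obj N)).1 (by simp)

/-- The fibre of strict localisations at a field-valued point is the spectrum of the tensor product. -/
theorem nonempty_fibre_equiv (RS RX Ω : Type u) [CommRing RS] [CommRing RX] [Algebra RS RX] [Field Ω]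
    (τ : Spec (CommRingCat.of Ω) ⟶ Spec (CommRingCat.of RS)) (n q : ℕ) :
    ∃ _ : Algebra RS Ω, Nonempty (EtCoh.H (pullback (Spec.map (CommRingCat.ofHom (algebraMap RS RX))) τ)
        (EtCoh.const _ (ZMod n)) q ≃+
      EtCoh.H (Spec (CommRingCat.of (EtRest.vcRing RS RX Ω)))
        (EtCoh.const (Spec (CommRingCat.of (EtRest.vcRing RS RX Ω))) (ZMod n)) q) := by
  letI : Algebra RS Ω := (Spec.preimage τ).hom.toAlgebra
  have hτ : Spec.map (CommRingCat.ofHom (algebraMap RS Ω)) = τ := Spec.map_preimage τ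
  refine ⟨inferInstance, ?_⟩
  rw [← hτ]
  exact LocAcycBCLib.nonempty_H_const_equiv (pullbackSpecIso RS RX Ω) n q

/-- Fibres of strict localisations of a locally acyclic morphism are acyclic schemes. -/
theorem acyclicScheme_fibre {X S : Scheme.{u}} {f : X ⟶ S} (hf : EtRest.IsLocallyAcyclic f) (x : X)
    (RS RX : Type u) [CommRing RS] [CommRing RX] [IsLocalRing RS] [IsLocalRing RX]
    [Algebra (S.presheaf.stalk (f.base x)) RS] [IsLocalHom (algebraMap (S.presheaf.stalk (f.base x)) RS)]
    [Hensel.IsStrictHenselization (S.presheaf.stalk (f.base x)) RS]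
    [Algebra (X.presheaf.stalk x) RX] [IsLocalHom (algebraMap (X.presheaf.stalk x) RX)]
    [Hensel.IsStrictHenselization (X.presheaf.stalk x) RX]
    [Algebra RS RX] [IsLocalHom (algebraMap RS RX)]
    (hc : (algebraMap RS RX).comp (algebraMap (S.presheaf.stalk (f.base x)) RS) =
      (algebraMap (X.presheaf.stalk x) RX).comp (f.stalkMap x).hom)
    {n : ℕ} (hn : 1 < n) (hx : (n : X.residueField x) ≠ 0) (k : ℕ)
    {Ω : Type u} [Field Ω] [IsSepClosed Ω] (τ : Spec (CommRingCat.of Ω) ⟶ Spec (CommRingCat.of RS)) :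
    EtAcyc.IsAcyclicSchemeN (primesOf n) k (pullback (Spec.map (CommRingCat.ofHom (algebraMap RS RX))) τ) := by
  obtain ⟨aΩ, ⟨e0⟩⟩ := nonempty_fibre_equiv RS RX Ω τ n 0
  letI := aΩ
  obtain ⟨hq, ⟨e⟩⟩ := hf x RS RX hc Ω n hx
  refine acyclicScheme_of_modulus n _ hn (e0.trans e) (fun q hq0 => ?_) k
  obtain ⟨aΩ', ⟨eq⟩⟩ := nonempty_fibre_equiv RS RX Ω τ n q
  letI := aΩ'
  obtain ⟨hq', -⟩ := hf x RS RX hc Ω n hx
  haveI := hq' q hq0
  exact eq.injective.subsingleton

/-- A unit in the functions of the base is nonzero in every residue field. -/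
theorem natCast_residueField_ne_zero {X S : Scheme.{u}} (f : X ⟶ S) {n : ℕ} (hn : IsUnit (n : Γ(S, ⊤))) (x : X) :
    (n : X.residueField x) ≠ 0 := by
  have h := ((hn.map f.appTop.hom).map (X.Γevaluation x).hom).ne_zero
  rwa [map_natCast, map_natCast] at h

/-- Local acyclicity in the explicit form gives local acyclicity for the primes of an invertible modulus. -/
theorem isLocAcyclicN_of_isLocallyAcyclic {X S : Scheme.{u}} {f : X ⟶ S} (hf : EtRest.IsLocallyAcyclic f) {n : ℕ}
    (hn : 1 < n) (hinv : ∀ x : X, (n : X.residueField x) ≠ 0) (k : ℕ) :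
    EtAcyc.IsLocAcyclicN f (primesOf n) k := by
  refine (Groth.Agent.S3471.result f _ (exists_prime hn) k).2 ?_
  intro x RY RX _ _ _ _ _ _ _ _ _ _ _ _ hc y Ω _ _ _ _
  exact acyclicScheme_fibre hf x RY RX hc hn (hinv x) k _

/-- Acyclicity in all degrees gives the comparison isomorphism. -/
theorem bijective_Hpull_of_acyclic {X Y : Scheme.{u}} (g : X ⟶ Y) [QuasiCompact g] [QuasiSeparated g] {n : ℕ}
    (hn : 1 < n) (hloc : ∀ k, EtAcyc.IsLocAcyclicN g (primesOf n) k)
    (hfib : ∀ k, EtAcyc.GeomFibresAcyclicN (primesOf n) k g) (k : ℕ) :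
    EtAcyc.IsAcyclicN g (primesOf n) k := by
  have h := (Groth.Agent.S3470.result g _ (exists_prime hn) (k + 1) (Nat.succ_pos k) (hloc _)).2 (hfib _)
  exact EtAcycFibLib.isAcyclicN_of_le (Nat.le_succ k) h

/-- Acyclic schemes are stable under isomorphism. -/
theorem isAcyclicSchemeN_of_iso {P Q : Scheme.{u}} (e : P ≅ Q) {L : Set ℕ} {k : ℕ}
    (h : EtAcyc.IsAcyclicSchemeN L k P) : EtAcyc.IsAcyclicSchemeN L k Q := by
  obtain ⟨hne, hc, hH⟩ := h
  obtain ⟨p⟩ := hne
  haveI := hc
  refine ⟨⟨e.hom.base p⟩, e.hom.homeomorph.surjective.connectedSpace e.hom.homeomorph.continuous,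
    fun ℓ h1 h2 q hq1 hq2 => ?_⟩
  obtain ⟨E⟩ := LocAcycBCLib.nonempty_H_const_equiv e ℓ q
  haveI := hH ℓ h1 h2 q hq1 hq2
  exact E.symm.injective.subsingleton

end LocAcycPointLib
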