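import Groth.Agent.EtAcycLib.Crit

/-!
# Higher direct images under an acyclic morphism
-/

set_option autoImplicit false
set_option linter.all false
set_option backward.isDefEq.respectTransparency false
set_option backward.isDefEq.respectTransparency.types false
set_option synthInstance.maxHeartbeats 400000
set_option maxHeartbeats 2000000

universe u

open CategoryTheory CategoryTheory.Limits CategoryTheory.Abelian AlgebraicGeometry Opposite
open DescSecLib EtAcycLib

noncomputable section

namespace LocAcycPointLib

/-- The unit is an isomorphism and the higher direct images vanish, for an acyclic morphism. -/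
theorem unit_iso_and_Rpush_vanish {X Y : Scheme.{u}} (g : X ⟶ Y) {L : Set ℕ} {n : ℕ}
    (hg : EtAcyc.IsAcyclicN g L n) {F : EtCoh.Ab Y} (hF : EtAcyc.IsLTorsion L F) :
    IsIso ((EtCoh.pullPushAdj g).unit.app F) ∧
      ∀ q : ℕ, 1 ≤ q → q ≤ n → IsZero ((EtCoh.Rpush g q).obj ((EtCoh.pull g).obj F)) := by
  have H : ∀ (W : Y.Etale) (q : ℕ), q ≤ n → Function.Bijective (etSys.Hmap F q (prOv g W)) := fun W q hq => by
    haveI : PreservesFiniteLimits (EtCoh.pull (prOv g W).left) := EtSliceLib.pullExact _
    have hb : Function.Bijective (EtCore.Hpull (prOv g W).left ((EtCoh.pull W.hom).obj F) q) :=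
      (hg W ((EtCoh.pull W.hom).obj F) (isLTorsion_pull W hF)).1 q hq
    haveI := isIso_theta F (prOv g W)
    rw [show (etSys.Hmap F q (prOv g W) : _ → _) = (fun y => Ext.comp y
      (Ext.mk₀ (asIso (etSys.θ F (prOv g W))).hom) (add_zero q)) ∘
        EtCore.Hpull (prOv g W).left ((EtCoh.pull W.hom).obj F) q from funext fun x => hmap_eq_Hpull F q _ x]
    exact (bijective_mk₀_iso_postcomp _ q).comp hb
  refine ⟨?_, fun q h1 hq => ?_⟩
  · haveI : IsIso ((sheafToPresheaf Y.smallEtaleTopology AddCommGrpCat.{u + 1}).map
        ((EtCoh.pullPushAdj g).unit.app F)) := by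
      rw [NatTrans.isIso_iff_isIso_app]
      intro W
      exact (ConcreteCategory.isIso_iff_bijective _).2
        (bijective_unit_app g (fun W => H W 0 (Nat.zero_le n)) W.unop)
    exact isIso_of_reflects_iso _ (sheafToPresheaf Y.smallEtaleTopology AddCommGrpCat.{u + 1})
  · obtain ⟨m, rfl⟩ : ∃ m, q = m + 1 := ⟨q - 1, by omega⟩
    exact isZero_Rpush_of_killed g m _ (killed_of_surj g F n hq fun W q hq => (H W q hq).2)

end LocAcycPointLib
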