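import Groth.Agent.EtAcycFibLib.Acyclic
import Groth.Agent.EtBcBridgeLib.Criterion

/-!
# Schemes with the cohomology of a point for constant coefficients
-/

set_option autoImplicit false
set_option linter.all false
set_option backward.isDefEq.respectTransparency false
set_option backward.isDefEq.respectTransparency.types false
set_option synthInstance.maxHeartbeats 400000
set_option maxHeartbeats 2000000

universe u

open CategoryTheory CategoryTheory.Limits CategoryTheory.Abelian AlgebraicGeometry Opposite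

noncomputable section

namespace LocAcycPointLib

/-- The constant sheaf of a positive integer with prime factors in `L` is torsion. -/
theorem isLTorsion_const {X : Scheme.{u}} {L : Set ℕ} {n : ℕ} (hn : EtAcyc.PrimesIn L n) :
    EtAcyc.IsLTorsion L (EtCoh.const X (ZMod n)) := fun U s x =>
  ⟨U, 𝟙 U, n, ⟨x, rfl⟩, hn, congrArg (fun t : EtCoh.const X (ZMod n) ⟶ _ =>
    t.hom.app (op U) ((EtCoh.const X (ZMod n)).obj.map (𝟙 U).op s)) (EtStrictAcycLib.nsmul_id_const n)⟩

/-- A map of coefficient groups on constant sheaves. -/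
def cmap (P : Scheme.{u}) {A B : Type} [AddCommGroup A] [AddCommGroup B] (f : A →+ B) :
    EtCoh.const P A ⟶ EtCoh.const P B :=
  (ConstHLib.cS P).map (X := AddCommGrpCat.of (ULift.{u + 1} A)) (Y := AddCommGrpCat.of (ULift.{u + 1} B))
    (AddCommGrpCat.ofHom ((AddEquiv.ulift.symm.toAddMonoidHom.comp f).comp AddEquiv.ulift.toAddMonoidHom))

/-- Multiplication by `l` as a map `ℤ/m → ℤ/(lm)`. -/
def incl (l m n : ℕ) (hn : n = l * m) : ZMod m →+ ZMod n :=
  let f0 : ℤ →+ ZMod n := zmultiplesHom (ZMod n) (l : ZMod n)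
  ZMod.lift m ⟨f0, show (m : ℤ) • (l : ZMod n) = 0 by
    rw [natCast_zsmul, nsmul_eq_mul, ← Nat.cast_mul, mul_comm, ← hn, ZMod.natCast_self]⟩

/-- Reduction `ℤ/(lm) → ℤ/m`. -/
def red (l m n : ℕ) (hn : n = l * m) : ZMod n →+ ZMod m :=
  (ZMod.castHom (hn ▸ dvd_mul_left m l : m ∣ n) (ZMod m)).toAddMonoidHom

variable (l m n : ℕ) (hn : n = l * m)

theorem incl_natCast (a : ℕ) : incl l m n hn (a : ZMod m) = ((l * a : ℕ) : ZMod n) := by
  rw [← Int.cast_natCast (R := ZMod m) a, incl]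
  rw [ZMod.lift_coe]
  show (a : ℤ) • (l : ZMod n) = _
  rw [natCast_zsmul, nsmul_eq_mul, ← Nat.cast_mul, mul_comm]

theorem red_natCast (a : ℕ) : red l m n hn (a : ZMod n) = (a : ZMod m) :=
  map_natCast (ZMod.castHom (hn ▸ dvd_mul_left m l : m ∣ n) (ZMod m)) a

theorem incl_red [NeZero n] (a : ZMod n) : incl l m n hn (red l m n hn a) = l • a := by
  rw [← ZMod.natCast_zmod_val a, red_natCast, incl_natCast, nsmul_eq_mul, Nat.cast_mul]

theorem incl_injective [NeZero n] : Function.Injective (incl l m n hn) := by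
  haveI : NeZero m := ⟨fun h => NeZero.ne n (by rw [hn, h, mul_zero])⟩
  have hl : 0 < l := Nat.pos_of_ne_zero fun h => NeZero.ne n (by rw [hn, h, zero_mul])
  refine (injective_iff_map_eq_zero _).2 fun a ha => ?_
  rw [← ZMod.natCast_zmod_val a, incl_natCast, ZMod.natCast_eq_zero_iff] at ha
  rw [← ZMod.natCast_zmod_val a, ZMod.natCast_eq_zero_iff]
  exact Nat.dvd_of_mul_dvd_mul_left hl (hn ▸ ha)

theorem red_surjective : Function.Surjective (red l m n hn) := ZMod.castHom_surjective (hn ▸ dvd_mul_left m l : m ∣ n)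

/-- The short exact sequence `0 → ℤ/l → ℤ/(lm) → ℤ/m → 0`. -/
def seqAb [NeZero n] : ShortComplex AddCommGrpCat.{u + 1} :=
  ShortComplex.mk (X₁ := AddCommGrpCat.of (ULift.{u + 1} (ZMod l)))
    (X₂ := AddCommGrpCat.of (ULift.{u + 1} (ZMod n))) (X₃ := AddCommGrpCat.of (ULift.{u + 1} (ZMod m)))
    (AddCommGrpCat.ofHom ((AddEquiv.ulift.symm.toAddMonoidHom.comp (incl m l n (hn.trans (mul_comm l m)))).comp
      AddEquiv.ulift.toAddMonoidHom))
    (AddCommGrpCat.ofHom ((AddEquiv.ulift.symm.toAddMonoidHom.comp (red l m n hn)).comp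
      AddEquiv.ulift.toAddMonoidHom))
    (by
      haveI : NeZero l := ⟨fun h => NeZero.ne n (by rw [hn, h, zero_mul])⟩
      ext a
      show red l m n hn (incl m l n (hn.trans (mul_comm l m)) a.down) = 0
      rw [← ZMod.natCast_zmod_val a.down, incl_natCast, red_natCast, Nat.cast_mul, ZMod.natCast_self, zero_mul])

theorem seqAb_shortExact [NeZero n] : (seqAb.{u} l m n hn).ShortExact :=
  { exact := (ShortComplex.ab_exact_iff _).2 fun z hz => by
      have h0 : red l m n hn z.down = 0 := congrArg ULift.down hz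
      rw [← ZMod.natCast_zmod_val z.down, red_natCast, ZMod.natCast_eq_zero_iff] at h0
      obtain ⟨c, hc⟩ := h0
      refine ⟨⟨(c : ZMod l)⟩, ULift.ext _ _ ?_⟩
      show incl m l n (hn.trans (mul_comm l m)) (c : ZMod l) = z.down
      rw [incl_natCast, ← hc, ZMod.natCast_zmod_val]
    mono_f := (AddCommGrpCat.mono_iff_injective _).2 fun a b e =>
      ULift.ext _ _ (incl_injective m l n (hn.trans (mul_comm l m)) (congrArg ULift.down e))
    epi_g := (AddCommGrpCat.epi_iff_surjective _).2 fun z => by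
      obtain ⟨a, ha⟩ := red_surjective l m n hn z.down
      exact ⟨⟨a⟩, ULift.ext _ _ ha⟩ }

variable (P : Scheme.{u})

/-- The sequence of constant sheaves. -/
theorem seq_shortExact [NeZero n] : ((seqAb.{u} l m n hn).map (ConstHLib.cS P)).ShortExact :=
  (seqAb_shortExact l m n hn).map_of_exact (ConstHLib.cS P)

theorem comp_mk₀_nsmul {C : Type*} [Category C] [Abelian C] [HasExt.{u + 1} C] {X Y Z : C} {q : ℕ}
    (b : Ext X Y q) (f : Y ⟶ Z) (k : ℕ) :
    b.comp (Ext.mk₀ (k • f)) (add_zero q) = k • b.comp (Ext.mk₀ f) (add_zero q) := by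
  induction k with
  | zero => rw [zero_smul, zero_smul, Ext.mk₀_zero, Ext.comp_zero]
  | succ k ih => rw [succ_nsmul, succ_nsmul, Ext.mk₀_add, Ext.comp_add, ih]

theorem nsmul_comp_mk₀ {C : Type*} [Category C] [Abelian C] [HasExt.{u + 1} C] {X Y Z : C} {q : ℕ}
    (b : Ext X Y q) (f : Y ⟶ Z) (k : ℕ) :
    (k • b).comp (Ext.mk₀ f) (add_zero q) = k • b.comp (Ext.mk₀ f) (add_zero q) :=
  map_nsmul ((Ext.mk₀ f).postcomp X (add_zero q)) k b

/-- Reduction is onto on global sections. -/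
theorem surjective_red [NeZero n] (e : EtCoh.H P (EtCoh.const P (ZMod n)) 0 ≃+ ZMod n)
    (b : EtCoh.H P (EtCoh.const P (ZMod m)) 0) :
    ∃ d : EtCoh.H P (EtCoh.const P (ZMod n)) 0,
      d.comp (Ext.mk₀ (cmap P (red l m n hn))) (add_zero 0) = b := by
  have hS := seq_shortExact.{u} m l n (hn.trans (mul_comm l m)) P
  haveI : Mono (cmap P (incl l m n hn)) := hS.mono_f
  have hinj : ∀ b b' : EtCoh.H P (EtCoh.const P (ZMod m)) 0,
      b.comp (Ext.mk₀ (cmap P (incl l m n hn))) (add_zero 0) = b'.comp (Ext.mk₀ (cmap P (incl l m n hn))) (add_zero 0) →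
      b = b' := fun b b' h => by
    obtain ⟨β, rfl⟩ := (Ext.mk₀_bijective _ _).2 b
    obtain ⟨β', rfl⟩ := (Ext.mk₀_bijective _ _).2 b'
    rw [Ext.mk₀_comp_mk₀, Ext.mk₀_comp_mk₀] at h
    rw [(cancel_mono _).1 ((Ext.mk₀_bijective _ _).1 h)]
  set c := b.comp (Ext.mk₀ (cmap P (incl l m n hn))) (add_zero 0) with hc
  have hm : m • c = 0 := by
    have hb : m • b = 0 := by
      rw [← Ext.comp_mk₀_id b, ← comp_mk₀_nsmul,
        show m • 𝟙 (EtCoh.const P (ZMod m)) = 0 from EtStrictAcycLib.nsmul_id_const m, Ext.mk₀_zero, Ext.comp_zero]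
    rw [hc, ← nsmul_comp_mk₀, hb, Ext.zero_comp]
  haveI : NeZero m := ⟨fun h => NeZero.ne n (by rw [hn, h, mul_zero])⟩
  have hm' : m * (e c).val ≡ 0 [MOD n] := by
    rw [← ZMod.natCast_eq_natCast_iff, Nat.cast_mul, ZMod.natCast_zmod_val, ← nsmul_eq_mul, ← map_nsmul, hm,
      map_zero, Nat.cast_zero]
  obtain ⟨d, hd⟩ : l ∣ (e c).val := by
    exact Nat.dvd_of_mul_dvd_mul_left (NeZero.pos m)
      (Eq.subst (motive := fun z => z ∣ m * (e c).val) (hn.trans (mul_comm l m)) (Nat.modEq_zero_iff_dvd.1 hm'))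
  refine ⟨e.symm (d : ZMod n), hinj _ _ ?_⟩
  rw [Ext.comp_assoc_of_second_deg_zero, Ext.mk₀_comp_mk₀]
  have hcomp : cmap P (red l m n hn) ≫ cmap P (incl l m n hn) = l • 𝟙 (EtCoh.const P (ZMod n)) := by
    rw [cmap, cmap, ← Functor.map_comp, ← (ConstHLib.cS P).map_id, ← Functor.map_nsmul]
    refine congrArg (ConstHLib.cS P).map ?_
    ext a
    exact incl_red l m n hn a.down
  rw [hcomp, comp_mk₀_nsmul, Ext.comp_mk₀_id, ← hc]
  apply e.injective
  rw [map_nsmul, e.apply_symm_apply, nsmul_eq_mul, ← Nat.cast_mul, ← hd, ZMod.natCast_zmod_val]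

/-- Vanishing descends to divisors of the coefficient modulus. -/
theorem subsingleton_of_dvd [NeZero n] (e : EtCoh.H P (EtCoh.const P (ZMod n)) 0 ≃+ ZMod n)
    (hq : ∀ q : ℕ, 0 < q → Subsingleton (EtCoh.H P (EtCoh.const P (ZMod n)) q)) :
    ∀ (q l m : ℕ), n = l * m → Subsingleton (EtCoh.H P (EtCoh.const P (ZMod l)) (q + 1)) := by
  intro q
  induction q with
  | zero =>
    intro l m hn
    refine subsingleton_of_forall_eq 0 fun x => ?_
    obtain ⟨b, rfl⟩ := Ext.covariant_sequence_exact₁ _ (seq_shortExact.{u} l m n hn P) x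
      (@Subsingleton.elim _ (hq 1 Nat.one_pos) _ _) rfl
    obtain ⟨d, hd⟩ := surjective_red l m n hn P e b
    refine (congrArg (fun z : EtCoh.H P (EtCoh.const P (ZMod m)) 0 => z.comp
      (seq_shortExact.{u} l m n hn P).extClass rfl) hd.symm).trans ?_
    show (d.comp (Ext.mk₀ ((seqAb.{u} l m n hn).map (ConstHLib.cS P)).g) (add_zero 0)).comp
      (seq_shortExact.{u} l m n hn P).extClass _ = 0
    rw [Ext.comp_assoc_of_second_deg_zero, ShortComplex.ShortExact.comp_extClass, Ext.comp_zero]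
  | succ q ih =>
    intro l m hn
    refine subsingleton_of_forall_eq 0 fun x => ?_
    obtain ⟨b, rfl⟩ := Ext.covariant_sequence_exact₁ _ (seq_shortExact.{u} l m n hn P) x
      (@Subsingleton.elim _ (hq (q + 1 + 1) (Nat.succ_pos _)) _ _) rfl
    rw [show b = 0 from @Subsingleton.elim _ (ih m l (hn.trans (mul_comm l m))) _ _, Ext.zero_comp]

/-- The cohomology of a point, for the divisors of the modulus. -/
theorem acyclicScheme_of_modulus (hn1 : 1 < n) (e : EtCoh.H P (EtCoh.const P (ZMod n)) 0 ≃+ ZMod n)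
    (hq : ∀ q : ℕ, 0 < q → Subsingleton (EtCoh.H P (EtCoh.const P (ZMod n)) q)) (k : ℕ) :
    EtAcyc.IsAcyclicSchemeN {p | p.Prime ∧ p ∣ n} k P := by
  haveI : NeZero n := ⟨by omega⟩
  haveI : Fact (1 < n) := ⟨hn1⟩
  obtain ⟨hne, hconn⟩ := EtStrictAcycLib.connected_of_sections (T := P) (M := ZMod n) e e.bijective
  refine ⟨hne, hconn, fun ℓ hℓ hℓn q hq1 _ => ?_⟩
  obtain ⟨m, hm⟩ := hℓn.2
  obtain ⟨j, rfl⟩ : ∃ j, q = j + 1 := ⟨q - 1, by omega⟩
  exact subsingleton_of_dvd n P e hq j ℓ m hm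

end LocAcycPointLib
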